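import Groth.Agent.HTop74.PhExt
import Groth.Agent.HTopCov.V
import Groth.Prelude.Def_HTop

/-! ph coverings: composition and base change. -/

set_option autoImplicit false
set_option backward.isDefEq.respectTransparency false
set_option backward.isDefEq.respectTransparency.types false

universe w w' u

open CategoryTheory CategoryTheory.Limits AlgebraicGeometry TopologicalSpace HTop

namespace Groth.Agent.HTop74

variable {T T' S : Scheme.{u}}

/-- A proper surjection onto an affine scheme factoring locally through a family gives a standard ph refinement. -/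
theorem exists_standardPh_of_local [IsAffine T] (h : T ⟶ T') (E : PreZeroHypercover.{w} T') {W : Scheme.{u}}
    (g : W ⟶ T) [IsProper g] [Surjective g]
    (hloc : ∀ x : W, ∃ (O : W.Opens) (i : E.I₀) (m : O.toScheme ⟶ E.X i), x ∈ O ∧ m ≫ E.f i = O.ι ≫ g ≫ h) :
    ∃ F : PreZeroHypercover.{0} T, IsStandardPh F ∧ RefinesOver h F E := by
  have key : ∀ x : W, ∃ (V : W.Opens) (i : E.I₀) (m : V.toScheme ⟶ E.X i),
      IsAffineOpen V ∧ x ∈ V ∧ m ≫ E.f i = V.ι ≫ g ≫ h := fun x => by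
    obtain ⟨O, i, m, hx, hm⟩ := hloc x
    obtain ⟨_, ⟨V, hV, rfl⟩, hxV, hle⟩ := W.isBasis_affineOpens.exists_subset_of_mem_open hx O.2
    exact ⟨V, i, W.homOfLE hle ≫ m, hV, hxV, by rw [Category.assoc, hm, Scheme.homOfLE_ι_assoc]⟩
  choose V i m hV hxV hm using key
  haveI : CompactSpace W := QuasiCompact.compactSpace_of_compactSpace g
  obtain ⟨s, hs⟩ := (isCompact_univ (X := W)).elim_finite_subcover (fun x => (V x : Set W))
    (fun x => (V x).2) (fun x _ => Set.mem_iUnion.mpr ⟨x, hxV x⟩)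
  let e := s.equivFin.symm
  refine ⟨⟨Fin s.card, fun j => (V (e j).1).toScheme, fun j => (V (e j).1).ι ≫ g⟩,
    ⟨‹_›, inferInstanceAs (Finite (Fin s.card)), fun j => hV (e j).1, W, g, fun j => (V (e j).1).ι, ‹_›, ‹_›,
      fun j => inferInstanceAs (IsOpenImmersion (V (e j).1).ι), fun j => rfl, fun x => ?_⟩,
    fun j => ⟨i (e j).1, m (e j).1, (hm (e j).1).trans (Category.assoc _ _ _).symm⟩⟩
  obtain ⟨y, hys, hy⟩ := Set.mem_iUnion₂.mp (hs (Set.mem_univ x))
  refine ⟨e.symm ⟨y, hys⟩, ?_⟩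
  show x ∈ Set.range (V (e (e.symm ⟨y, hys⟩)).1).ι
  rw [Equiv.apply_symm_apply, Scheme.Opens.range_ι]
  exact hy

theorem hom_of_refinesOver_id {F : PreZeroHypercover.{w'} T} {E : PreZeroHypercover.{w} T}
    (h : RefinesOver (𝟙 T) F E) : Nonempty (F.Hom E) := by
  choose i m hm using h
  exact ⟨{ s₀ := i, h₀ := m, w₀ := fun j => (hm j).trans (Category.comp_id _) }⟩

/-- A standard ph covering of standard ph coverings is refined by a standard ph covering. -/
theorem exists_standardPh_bind (E : PreZeroHypercover.{w} T) (hE : IsStandardPh E)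
    (F : ∀ j, PreZeroHypercover.{w'} (E.X j)) (hF : ∀ j, IsStandardPh (F j)) :
    ∃ F' : PreZeroHypercover.{0} T, IsStandardPh F' ∧ RefinesOver (𝟙 T) F' (E.bind F) := by
  classical
  haveI := hE.isAffine
  haveI := hE.finite_index
  obtain ⟨U, f, ι, hf, hsurj, hι, hιf, hcov⟩ := hE.exists_proper
  choose V k κ hk hks hκ hκk hκcov using fun j => (hF j).exists_proper
  haveI := hE.isAffine_obj
  haveI : IsProper (f ≫ T.isoSpec.hom) := inferInstance
  choose Y g hg hgs hgloc using fun j =>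
    @exists_proper_extension _ _ U (E.X j) (V j) (f ≫ T.isoSpec.hom) inferInstance (ι j) (hι j) (hE.isAffine_obj j)
      (k j) (hk j) (hks j)
  have key : ∀ S : Finset E.I₀, ∃ (W : Scheme.{u}) (p : W ⟶ U), IsProper p ∧ Surjective p ∧
      ∀ x : W, ∀ j ∈ S, p x ∈ Set.range (ι j) →
        ∃ (O : W.Opens) (m : O.toScheme ⟶ V j), x ∈ O ∧ m ≫ k j ≫ ι j = O.ι ≫ p := by
    intro S
    induction S using Finset.induction with
    | empty => exact ⟨U, 𝟙 U, inferInstance, inferInstance, fun x j hj => absurd hj (Finset.notMem_empty j)⟩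
    | insert a S _ ih =>
      obtain ⟨W, p, hp, hps, hloc⟩ := ih
      haveI := hg a
      haveI := hgs a
      refine ⟨pullback p (g a), pullback.fst p (g a) ≫ p, inferInstance, inferInstance, fun x j hj hx => ?_⟩
      rcases Finset.mem_insert.1 hj with rfl | hj
      · have hx' : g j (pullback.snd p (g j) x) ∈ Set.range (ι j) := by
          rw [← Scheme.Hom.comp_apply, ← pullback.condition]; exact hx
        obtain ⟨O, m, hxO, hm⟩ := hgloc j _ hx'
        refine ⟨pullback.snd p (g j) ⁻¹ᵁ O, (pullback.snd p (g j) ∣_ O) ≫ m, hxO, ?_⟩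
        rw [Category.assoc, hm, morphismRestrict_ι_assoc, pullback.condition]
      · obtain ⟨O, m, hxO, hm⟩ := hloc (pullback.fst p (g a) x) j hj (by rw [← Scheme.Hom.comp_apply]; exact hx)
        refine ⟨pullback.fst p (g a) ⁻¹ᵁ O, (pullback.fst p (g a) ∣_ O) ≫ m, hxO, ?_⟩
        rw [Category.assoc, hm, morphismRestrict_ι_assoc]
  haveI : Fintype E.I₀ := Fintype.ofFinite _
  obtain ⟨W, p, hp, hps, hloc⟩ := key Finset.univ
  refine exists_standardPh_of_local (𝟙 T) (E.bind F) (p ≫ f) fun x => ?_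
  obtain ⟨j, hj⟩ := hcov (p x)
  obtain ⟨O, m, hxO, hm⟩ := hloc x j (Finset.mem_univ j) hj
  obtain ⟨l, y, hy⟩ := hκcov j (m ⟨x, hxO⟩)
  haveI := hκ j l
  let O' : O.toScheme.Opens := m ⁻¹ᵁ (κ j l).opensRange
  have hr : Set.range (O'.ι ≫ m) ⊆ Set.range (κ j l) := by
    rintro _ ⟨z, rfl⟩
    exact z.2
  refine ⟨O.ι ''ᵁ O', ⟨j, l⟩, (O.ι.isoImage O').inv ≫ IsOpenImmersion.lift (κ j l) (O'.ι ≫ m) hr,
    ⟨⟨x, hxO⟩, ⟨y, hy⟩, rfl⟩, ?_⟩
  show (_ ≫ IsOpenImmersion.lift (κ j l) (O'.ι ≫ m) hr) ≫ (F j).f l ≫ E.f j = _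
  rw [← cancel_epi (O.ι.isoImage O').hom]
  simp only [Category.assoc, Iso.hom_inv_id_assoc, Category.comp_id]
  rw [Scheme.Hom.isoImage_hom_ι_assoc, ← reassoc_of% hm, ← hκk j l, ← hιf j]
  simp only [Category.assoc, IsOpenImmersion.lift_fac_assoc]

/-- Open covers of affine schemes are refined by standard ph coverings. -/
theorem exists_standardPh_of_openCover [IsAffine T] (h : T ⟶ T') (E : PreZeroHypercover.{w} T')
    (hloc : ∀ x : T, ∃ (O : T.Opens) (i : E.I₀) (m : O.toScheme ⟶ E.X i), x ∈ O ∧ m ≫ E.f i = O.ι ≫ h) :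
    ∃ F : PreZeroHypercover.{0} T, IsStandardPh F ∧ RefinesOver h F E :=
  exists_standardPh_of_local h E (𝟙 T) fun x => by simpa using hloc x

/-- A ph covering is refined, over every affine scheme mapping to the base, by a standard ph covering. -/
theorem isPhCover_exists_refine {E : PreZeroHypercover.{w} T} (hE : IsPhCover E) [IsAffine S] (h : S ⟶ T) :
    ∃ F : PreZeroHypercover.{0} S, IsStandardPh F ∧ RefinesOver h F E := by
  let B : PreZeroHypercover.{u} T := ⟨T.affineOpens, fun U => U.1.toScheme, fun U => U.1.ι⟩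
  obtain ⟨G, hG, hGB⟩ := exists_standardPh_of_openCover h B fun x => by
    obtain ⟨U, hU, hx, -⟩ := exists_isAffineOpen_mem_and_subset (U := ⊤) (x := h x) trivial
    exact ⟨h ⁻¹ᵁ U, ⟨U, hU⟩, h ∣_ U, hx, morphismRestrict_ι _ _⟩
  choose U g hg using hGB
  choose F hF hFE using fun j => hE.2 (U j)
  haveI := hG.isAffine_obj
  obtain ⟨F', hF', hr⟩ := exists_standardPh_bind G hG (fun j => (F j).pullback₁ (g j))
    fun j => HTopCov.standardPh_pullback₁ (g j) _ (hF j)
  refine ⟨F', hF', fun p => ?_⟩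
  obtain ⟨⟨j, l⟩, m, hm⟩ := hr p
  obtain ⟨i, e, he⟩ := hFE j l
  refine ⟨i, m ≫ pullback.snd (g j) ((F j).f l) ≫ e, ?_⟩
  replace hm : m ≫ pullback.fst (g j) ((F j).f l) ≫ G.f j = F'.f p := hm.trans (Category.comp_id _)
  simp only [Category.assoc, he]
  rw [← hm, Category.assoc, Category.assoc, ← hg j]
  show _ = m ≫ pullback.fst (g j) ((F j).f l) ≫ g j ≫ (U j).1.ι
  rw [pullback.condition_assoc]

theorem isPhCover_pullback₁ (g : S ⟶ T) (E : PreZeroHypercover.{w} T) (hE : IsPhCover E) :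
    IsPhCover (E.pullback₁ g) := by
  refine ⟨fun i => ?_, fun U => ?_⟩
  · haveI := hE.1 i
    exact inferInstanceAs (LocallyOfFiniteType (pullback.fst g (E.f i)))
  haveI : IsAffine (U.1 : Scheme) := U.2
  obtain ⟨F, hF, hr⟩ := isPhCover_exists_refine hE (U.1.ι ≫ g)
  refine ⟨F, hF, fun j => ?_⟩
  obtain ⟨i, k, hk⟩ := hr j
  exact ⟨i, pullback.lift (F.f j ≫ U.1.ι) k (by rw [Category.assoc, hk]), pullback.lift_fst _ _ _⟩

theorem isPhCover_bind (E : PreZeroHypercover.{w} T) (hE : IsPhCover E)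
    (F : ∀ i, PreZeroHypercover.{w'} (E.X i)) (hF : ∀ i, IsPhCover (F i)) : IsPhCover (E.bind F) := by
  refine ⟨fun p => ?_, fun U => ?_⟩
  · haveI := hE.1 p.1
    haveI := (hF p.1).1 p.2
    exact inferInstanceAs (LocallyOfFiniteType ((F p.1).f p.2 ≫ E.f p.1))
  obtain ⟨G, hG, hr⟩ := hE.2 U
  choose i k hk using hr
  haveI := hG.isAffine_obj
  choose H hH hr' using fun j => isPhCover_exists_refine (hF (i j)) (k j)
  obtain ⟨G', hG', hr''⟩ := exists_standardPh_bind G hG H hH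
  refine ⟨G', hG', fun p => ?_⟩
  obtain ⟨⟨j, l⟩, m, hm⟩ := hr'' p
  obtain ⟨i', k', hk'⟩ := hr' j l
  replace hm : m ≫ (H j).f l ≫ G.f j = G'.f p := hm.trans (Category.comp_id _)
  refine ⟨⟨i j, i'⟩, m ≫ k', ?_⟩
  show (m ≫ k') ≫ (F (i j)).f i' ≫ E.f (i j) = _
  rw [← hm, Category.assoc, reassoc_of% hk', hk]
  simp only [Category.assoc]

end Groth.Agent.HTop74
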