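import Groth.Agent.ExistEasy.ChowNR.Closed
import Groth.Agent.PnCoh.Chow.Exists
import Groth.Agent.HTop74.SigmaProper
import Mathlib.AlgebraicGeometry.Morphisms.Proper

/-! Extension of proper surjective morphisms over affine opens, via Chow's construction. -/

set_option autoImplicit false
set_option backward.isDefEq.respectTransparency false
set_option backward.isDefEq.respectTransparency.types false

universe u

open CategoryTheory CategoryTheory.Limits AlgebraicGeometry TopologicalSpace

noncomputable section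

namespace Groth.Agent.HTop74

open Groth.Agent.ExistEasy.ChowNR
open Groth.Agent.PnCoh.Chow (exists_gens isProper_toSpec)

variable {A : Type u} [CommRing A]

/-- `V` is covered by finitely many proper maps with monomorphisms into projective spaces. -/
theorem exists_chow_pieces {V : Scheme.{u}} (f : V ⟶ Spec (CommRingCat.of A)) [IsSeparated f]
    [LocallyOfFiniteType f] [QuasiCompact f] :
    ∃ (κ : Type u) (_ : Finite κ) (X' : κ → Scheme.{u}) (π : ∀ K, X' K ⟶ V) (N : κ → ℕ)
      (p : ∀ K, X' K ⟶ CohB1.ProjSpace (N K) A), (∀ K, IsProper (π K)) ∧ (∀ K, Mono (p K)) ∧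
      (∀ K, p K ≫ CohB1.ProjSpace.toSpec (N K) A = π K ≫ f) ∧ ∀ x : V, ∃ K, x ∈ Set.range (π K) := by
  classical
  haveI : CompactSpace V := QuasiCompact.compactSpace_of_compactSpace f
  haveI : QuasiSeparatedSpace V := quasiSeparatedSpace_of_quasiSeparated f
  let 𝒰 := V.affineCover.finiteSubcover
  let I := 𝒰.I₀
  have hU : ∀ i : I, IsAffineOpen (𝒰.f i).opensRange := fun i => by
    haveI : IsAffine (𝒰.X i) := inferInstanceAs (IsAffine (V.affineCover.X _))
    exact isAffineOpen_opensRange _
  let U : I → V.Opens := fun i => (𝒰.f i).opensRange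
  let C : Finset I → Closeds V := fun K =>
    ⟨(⋃ i ∈ {i : I | i ∉ K}, (U i : Set V))ᶜ, (isOpen_biUnion fun i _ => (U i).2).isClosed_compl⟩
  let 𝓘 := fun K => Scheme.IdealSheafData.vanishingIdeal (C K)
  let W : ∀ K, (𝓘 K).subscheme.Opens := fun K => K.inf fun i => (𝓘 K).subschemeι ⁻¹ᵁ U i
  haveI : ∀ K, CompactSpace (𝓘 K).subscheme := fun K => QuasiCompact.compactSpace_of_compactSpace (𝓘 K).subschemeι
  haveI : ∀ K, QuasiSeparatedSpace (𝓘 K).subscheme := fun K =>
    quasiSeparatedSpace_of_quasiSeparated (𝓘 K).subschemeι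
  have hWc : ∀ (K : Finset I) (S : Finset I), IsCompact
      ((S.inf fun i => (𝓘 K).subschemeι ⁻¹ᵁ U i : (𝓘 K).subscheme.Opens) : Set (𝓘 K).subscheme) := fun K S => by
    induction S using Finset.induction with
    | empty => simpa using isCompact_univ
    | insert i S _ ih =>
      rw [Finset.inf_insert, Opens.coe_inf]
      exact QuasiSeparatedSpace.inter_isCompact _ _ ((𝓘 K).subschemeι ⁻¹ᵁ U i).2
        ((hU i).preimage _).isCompact (S.inf fun i => (𝓘 K).subschemeι ⁻¹ᵁ U i).2 ih
  have hmem : ∀ K (z : (𝓘 K).subscheme), (𝓘 K).subschemeι z ∈ C K := fun K z => by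
    have : (𝓘 K).subschemeι z ∈ Set.range (𝓘 K).subschemeι := ⟨z, rfl⟩
    rwa [Scheme.IdealSheafData.range_subschemeι, Scheme.IdealSheafData.coe_support_vanishingIdeal] at this
  have hD : ∀ K, ∃ D : Data ((𝓘 K).subschemeι ≫ f), Set.range D.j = W K := fun K => by
    let e : Fin K.card ≃ K := K.equivFin.symm
    choose k s hs using fun i => exists_gens ((𝓘 K).subschemeι ≫ f) ((hU (e i).1).preimage (𝓘 K).subschemeι)
    refine ⟨{
      W₀ := (W K).toScheme
      j := (W K).ι
      openImm := inferInstance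
      compact := isCompact_iff_compactSpace.1 (hWc K K)
      m := K.card
      U := fun i => (𝓘 K).subschemeι ⁻¹ᵁ U (e i).1
      hU := fun i => (hU (e i).1).preimage _
      hcov := fun z _ => ?_
      k := k
      s := s
      hgen := hs
      hle := fun i w _ => ?_ }, Scheme.Opens.range_ι _⟩
    · have hi : 𝒰.idx ((𝓘 K).subschemeι z) ∈ K := by
        by_contra hn
        exact hmem K z (Set.mem_biUnion hn (𝒰.covers _))
      refine Set.mem_iUnion.2 ⟨e.symm ⟨_, hi⟩, ?_⟩
      show (𝓘 K).subschemeι z ∈ U (e (e.symm ⟨_, hi⟩)).1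
      rw [Equiv.apply_symm_apply]
      exact 𝒰.covers _
    · exact (Finset.inf_le (f := fun i => (𝓘 K).subschemeι ⁻¹ᵁ U i) (e i).2) w.2
  choose D hDj using hD
  refine ⟨Finset I, inferInstance, fun K => (D K).X', fun K => (D K).π ≫ (𝓘 K).subschemeι, fun K => (D K).N,
    fun K => (D K).p, fun K => inferInstance, fun K => (D K).mono_p, fun K => ?_, fun x => ?_⟩
  · rw [Category.assoc, (D K).π_f]
  · let K : Finset I := Finset.univ.filter fun i => x ∈ U i
    have hxC : x ∈ C K := by
      intro hx
      obtain ⟨i, hi, hxi⟩ := Set.mem_iUnion₂.1 hx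
      exact hi (Finset.mem_filter.2 ⟨Finset.mem_univ _, hxi⟩)
    obtain ⟨z, hz⟩ : x ∈ Set.range (𝓘 K).subschemeι := by
      rwa [Scheme.IdealSheafData.range_subschemeι, Scheme.IdealSheafData.coe_support_vanishingIdeal]
    have hzW : z ∈ W K := by
      have : ∀ S : Finset I, S ⊆ K → z ∈ (S.inf fun i => (𝓘 K).subschemeι ⁻¹ᵁ U i : (𝓘 K).subscheme.Opens) := by
        intro S
        induction S using Finset.induction with
        | empty => intro _; simp
        | insert i S _ ih =>
          intro hS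
          rw [Finset.inf_insert]
          refine ⟨?_, ih ((Finset.subset_insert i S).trans hS)⟩
          show (𝓘 K).subschemeι z ∈ U i
          rw [hz]
          exact (Finset.mem_filter.1 (hS (Finset.mem_insert_self i S))).2
      exact this K subset_rfl
    obtain ⟨w, hw⟩ : z ∈ Set.range (D K).j := by rw [hDj]; exact hzW
    refine ⟨K, (D K).γ w, ?_⟩
    rw [← hz, ← hw, ← (D K).γ_π]
    rfl

/-- A proper surjection onto an affine open extends, up to refinement, to a proper surjection. -/
theorem exists_proper_extension {U U' V : Scheme.{u}} (f : U ⟶ Spec (CommRingCat.of A)) [IsProper f]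
    (k : U' ⟶ U) [IsOpenImmersion k] [IsAffine U'] (h : V ⟶ U') [IsProper h] [Surjective h] :
    ∃ (Y : Scheme.{u}) (g : Y ⟶ U), IsProper g ∧ Surjective g ∧
      ∀ y : Y, g y ∈ Set.range k → ∃ (O : Y.Opens) (m : O.toScheme ⟶ V), y ∈ O ∧ m ≫ h ≫ k = O.ι ≫ g := by
  classical
  haveI : QuasiSeparatedSpace U := quasiSeparatedSpace_of_quasiSeparated f
  haveI : QuasiCompact k := quasiCompact_of_compactSpace k
  haveI : LocallyOfFiniteType (k ≫ f) := inferInstance
  haveI : QuasiCompact (h ≫ k ≫ f) := inferInstance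
  haveI : IsSeparated (h ≫ k ≫ f) := inferInstance
  obtain ⟨κ, _, X', π, N, p, hπ, hp, hpπ, hcov⟩ := exists_chow_pieces (h ≫ k ≫ f)
  let P := fun K => CohB1.ProjSpace.toSpec (N K) A
  haveI : ∀ K, IsProper (P K) := fun K => isProper_toSpec _ _
  let q' : ∀ K, X' K ⟶ pullback (P K) (k ≫ f) := fun K =>
    pullback.lift (p K) (π K ≫ h) (by rw [Category.assoc]; exact hpπ K)
  let o : ∀ K, pullback (P K) (k ≫ f) ⟶ pullback (P K) f := fun K =>
    pullback.map _ _ _ _ (𝟙 _) k (𝟙 _) (by simp) (by simp)
  have sq : ∀ K, IsPullback (o K) (pullback.snd (P K) (k ≫ f)) (pullback.snd (P K) f) k := fun K => by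
    refine IsPullback.of_right ?_ (pullback.lift_snd _ _ _) (IsPullback.of_hasPullback (P K) f).flip.flip
    simpa [o] using IsPullback.of_hasPullback (P K) (k ≫ f)
  haveI : ∀ K, IsOpenImmersion (o K) := fun K =>
    MorphismProperty.of_isPullback (P := @IsOpenImmersion) (sq K).flip inferInstance
  haveI : ∀ K, QuasiCompact (o K) := fun K =>
    MorphismProperty.of_isPullback (P := @QuasiCompact) (sq K).flip inferInstance
  haveI : ∀ K, IsClosedImmersion (q' K) := fun K => by
    haveI := hp K
    haveI := hπ K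
    haveI : IsProper (q' K ≫ pullback.snd (P K) (k ≫ f)) := by
      rw [pullback.lift_snd]; infer_instance
    refine (IsClosedImmersion.iff_isProper_and_mono _).2 ⟨IsProper.of_comp _ (pullback.snd (P K) (k ≫ f)), ?_⟩
    haveI : Mono (q' K ≫ pullback.fst (P K) (k ≫ f)) := by rw [pullback.lift_fst]; infer_instance
    exact mono_of_mono _ (pullback.fst (P K) (k ≫ f))
  let q := fun K => q' K ≫ o K
  let Z : Closeds U := ⟨(Set.range k)ᶜ, k.isOpenEmbedding.isOpen_range.isClosed_compl⟩
  let Y : Option κ → Scheme.{u} := fun j => j.elim (Scheme.IdealSheafData.vanishingIdeal Z).subscheme fun K => (q K).image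
  let g : ∀ j, Y j ⟶ U := fun j => match j with
    | none => (Scheme.IdealSheafData.vanishingIdeal Z).subschemeι
    | some K => (q K).imageι ≫ pullback.snd (P K) f
  have hg : ∀ j, IsProper (g j) := fun j => match j with
    | none => inferInstanceAs (IsProper (Scheme.IdealSheafData.vanishingIdeal Z).subschemeι)
    | some K => by
      haveI : IsProper (pullback.snd (P K) f) := inferInstance
      exact inferInstanceAs (IsProper ((q K).imageι ≫ pullback.snd (P K) f))
  refine ⟨∐ Y, Sigma.desc g, ?_, ⟨fun x => ?_⟩, fun y hy => ?_⟩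
  · exact isProper_sigmaDesc g hg
  · by_cases hx : x ∈ Set.range k
    · obtain ⟨x', rfl⟩ := hx
      obtain ⟨v, hv⟩ := h.surjective x'
      obtain ⟨K, z, hz⟩ := hcov v
      refine ⟨Sigma.ι Y (some K) ((q K).toImage z), ?_⟩
      show (Sigma.ι Y (some K) ≫ Sigma.desc g) ((q K).toImage z) = _
      rw [Sigma.ι_desc, ← hv, ← hz]
      show ((q K).toImage ≫ (q K).imageι ≫ pullback.snd (P K) f) z = (π K ≫ h ≫ k) z
      rw [Scheme.Hom.toImage_imageι_assoc]
      simp [q, q', o]
    · obtain ⟨z, hz⟩ : x ∈ Set.range (Scheme.IdealSheafData.vanishingIdeal Z).subschemeι := by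
        rw [Scheme.IdealSheafData.range_subschemeι, Scheme.IdealSheafData.coe_support_vanishingIdeal]
        exact hx
      refine ⟨Sigma.ι Y none z, ?_⟩
      show (Sigma.ι Y none ≫ Sigma.desc g) z = _
      rw [Sigma.ι_desc]
      exact hz
  · obtain ⟨j, y', hy'⟩ := (sigmaOpenCover Y).exists_eq y
    change Sigma.ι Y j y' = y at hy'
    subst hy'
    replace hy : g j y' ∈ Set.range k := by
      rw [← Sigma.ι_desc g j]; exact hy
    match j with
    | none =>
      exfalso
      have : (Scheme.IdealSheafData.vanishingIdeal Z).subschemeι y' ∈ Set.range (Scheme.IdealSheafData.vanishingIdeal Z).subschemeι := ⟨y', rfl⟩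
      rw [Scheme.IdealSheafData.range_subschemeι, Scheme.IdealSheafData.coe_support_vanishingIdeal] at this
      exact this hy
    | some K =>
      let O : (q K).image.Opens := g (some K) ⁻¹ᵁ k.opensRange
      have hr : Set.range (O.ι ≫ (q K).imageι) ⊆ Set.range (o K) := by
        rintro _ ⟨z, rfl⟩
        obtain ⟨w, hw⟩ := (show g (some K) z.1 ∈ Set.range k from z.2)
        obtain ⟨t, ht, -⟩ := Scheme.exists_preimage_of_isPullback (sq K) ((q K).imageι z.1) w hw.symm
        exact ⟨t, ht⟩
      let l : O.toScheme ⟶ pullback (P K) (k ≫ f) := IsOpenImmersion.lift (o K) (O.ι ≫ (q K).imageι) hr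
      have hl : l ≫ o K = O.ι ≫ (q K).imageι := IsOpenImmersion.lift_fac _ _ _
      haveI : Mono (l ≫ o K) := by rw [hl]; infer_instance
      haveI : Mono l := mono_of_mono l (o K)
      have htop : (q K).toImage ⁻¹ᵁ O = ⊤ := top_le_iff.1 fun z _ => by
        show ((q K).toImage ≫ (q K).imageι ≫ pullback.snd (P K) f) z ∈ Set.range k
        rw [Scheme.Hom.toImage_imageι_assoc]
        exact ⟨pullback.snd (P K) (k ≫ f) (q' K z), by simp [q, o]⟩
      let r := (q K).toImage ∣_ O
      have hrl : r ≫ l = ((q K).toImage ⁻¹ᵁ O).ι ≫ q' K := by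
        rw [← cancel_mono (o K), Category.assoc, hl, morphismRestrict_ι_assoc, Scheme.Hom.toImage_imageι,
          Category.assoc]
      haveI : IsIso ((q K).toImage ⁻¹ᵁ O).ι := by
        rw [htop]; exact inferInstanceAs (IsIso (Scheme.topIso _).hom)
      haveI : IsClosedImmersion (r ≫ l) := by rw [hrl]; infer_instance
      haveI : IsClosedImmersion r := IsClosedImmersion.of_comp r l
      haveI : QuasiCompact (q K) := inferInstance
      haveI : IsSchemeTheoreticallyDominant (q K).toImage := isSTDom_toImage _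
      haveI : IsSchemeTheoreticallyDominant r := isSTDom_restrict _ O
      haveI : IsIso r := IsClosedImmersion.isIso_iff_ker_eq_bot.2 r.ker_eq_bot
      let O' : (Y (some K)).Opens := O
      let e := (Sigma.ι Y (some K)).isoImage O'
      refine ⟨Sigma.ι Y (some K) ''ᵁ O', e.inv ≫ inv r ≫ ((q K).toImage ⁻¹ᵁ O).ι ≫ π K, ⟨y', hy, rfl⟩, ?_⟩
      rw [← cancel_epi e.hom]
      simp only [Category.assoc, Iso.hom_inv_id_assoc]
      rw [Scheme.Hom.isoImage_hom_ι_assoc, Sigma.ι_desc]
      show inv r ≫ ((q K).toImage ⁻¹ᵁ O).ι ≫ π K ≫ h ≫ k = O.ι ≫ (q K).imageι ≫ pullback.snd (P K) f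
      rw [IsIso.inv_comp_eq, morphismRestrict_ι_assoc, Scheme.Hom.toImage_imageι_assoc]
      simp [q, q', o]

end Groth.Agent.HTop74
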