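import Groth.Agent.HTop74.ValWitness
import Groth.Agent.HTopCov.DVR
import Groth.Agent.HTopCov.Misc
import Groth.Agent.HTopCov.Spec
import Mathlib.RingTheory.Polynomial.Basic

/-! Over a locally Noetherian base, discrete valuation rings suffice for the lifting property. -/

set_option autoImplicit false
set_option backward.isDefEq.respectTransparency false
set_option backward.isDefEq.respectTransparency.types false

universe w u

open CategoryTheory CategoryTheory.Limits AlgebraicGeometry IsLocalRing HTop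

namespace Groth.Agent.HTop74

open Groth.Agent.HTopCov

variable {X : Scheme.{u}} (E : PreZeroHypercover.{w} X)

/-- A discrete valuation ring dominating a given prime of a Noetherian domain, possibly zero. -/
theorem exists_dvr_hom (A : Type u) [CommRing A] [IsDomain A] [IsNoetherianRing A] (p : Ideal A) [p.IsPrime] :
    ∃ (R : CommRingCat.{u}) (_ : IsDomain R) (_ : IsDiscreteValuationRing R) (ψ : A →+* R),
      Function.Injective ψ ∧ (maximalIdeal R).comap ψ = p := by
  let P : CommRingCat.{u} := CommRingCat.of (Polynomial A)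
  let Px : Ideal (Polynomial A) := RingHom.ker (RingHom.comp (Ideal.Quotient.mk p) (Polynomial.constantCoeff (R := A)))
  have : Px.IsPrime := RingHom.ker_isPrime _
  let x : Spec P := (⟨Px, this⟩ : PrimeSpectrum P)
  let η : Spec P := (⟨⊥, Ideal.isPrime_bot⟩ : PrimeSpectrum (Polynomial A))
  have hne : x ≠ η := fun h => by
    have hX : (Polynomial.X : Polynomial A) ∈ Px := by simp [Px]
    have h' : Px = (⊥ : Ideal (Polynomial A)) := congrArg PrimeSpectrum.asIdeal h
    rw [h', Ideal.mem_bot] at hX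
    exact Polynomial.X_ne_zero hX
  have hsp : η ⤳ x := (PrimeSpectrum.le_iff_specializes _ _).1 bot_le
  haveI : IsNoetherianRing P := inferInstanceAs (IsNoetherianRing (Polynomial A))
  obtain ⟨R, h, hR, hh, hgen⟩ := Groth.Agent.S4450.result (𝟙 (Spec P)) η x hsp hne
  haveI := hR
  haveI : IsDiscreteValuationRing (CommRingCat.of R) := hR
  refine ⟨CommRingCat.of R, inferInstance, inferInstance, (Spec.preimage h).hom.comp Polynomial.C, ?_, ?_⟩
  · rw [RingHom.injective_iff_ker_eq_bot, ← RingHom.comap_ker, eq_bot_iff]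
    have h0 : h (⊥ : PrimeSpectrum R) = η := by
      let z : PrimeSpectrum ((Spec P).residueField η) := ⊥
      have e' : (Spec.map (CommRingCat.ofHom R.subtype)) z = (⊥ : PrimeSpectrum R) :=
        PrimeSpectrum.ext ((RingHom.injective_iff_ker_eq_bot R.subtype).mp Subtype.val_injective)
      rw [← e', ← Scheme.Hom.comp_apply, hgen, Category.comp_id]
      exact Scheme.fromSpecResidueField_apply _ _
    intro a ha
    have h1 : RingHom.ker (Spec.preimage h).hom = (⊥ : Ideal (Polynomial A)) := by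
      have := congrArg (fun q : Spec P => (q : PrimeSpectrum P).asIdeal) ((congrArg (fun f => f (⊥ : PrimeSpectrum R)) (Spec.map_preimage h)).trans h0)
      exact this
    rw [h1, Ideal.mem_comap, Ideal.mem_bot, Polynomial.C_eq_zero] at ha
    exact ha
  · have h1 : (maximalIdeal (CommRingCat.of R)).comap (Spec.preimage h).hom = Px := by
      exact congrArg (fun q : Spec P => (q : PrimeSpectrum P).asIdeal)
        ((congrArg (fun f => f (closedPoint R)) (Spec.map_preimage h)).trans hh)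
    rw [← Ideal.comap_comap, h1]
    ext a
    simp only [Px, RingHom.ker_eq_comap_bot, Ideal.mem_comap, RingHom.comp_apply, Polynomial.constantCoeff, Ideal.mem_bot]
    simp [Ideal.Quotient.eq_zero_iff_mem]
    exact iff_of_eq (congrArg (· ∈ p) Polynomial.coeff_C_zero)

/-- Lifting discrete valuation rings gives lifting all valuation rings. -/
theorem hasValLift_of_dvr [IsLocallyNoetherian X] [Finite E.I₀] [∀ i, LocallyOfFiniteType (E.f i)]
    [∀ i, QuasiCompact (E.f i)]
    (hdvr : ∀ (R : CommRingCat.{u}) [IsDomain R] [IsDiscreteValuationRing R] (g : Spec R ⟶ X),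
      ∃ (W : CommRingCat.{u}) (_ : IsDomain W) (_ : ValuationRing W) (φ : R ⟶ W),
        IsExtVal R W φ ∧ ∃ (j : E.I₀) (g' : Spec W ⟶ E.X j), g' ≫ E.f j = Spec.map φ ≫ g) :
    HasValLift E := by
  classical
  intro V _ _ g
  by_contra hcon
  obtain ⟨U, hU, hxU, -⟩ := exists_isAffineOpen_mem_and_subset (U := ⊤) (x := g (closedPoint V)) trivial
  haveI : IsNoetherianRing Γ(X, U) := IsLocallyNoetherian.component_noetherian ⟨U, hU⟩
  obtain ⟨g₀, hg₀⟩ := exists_lift_of_closedPoint hU.fromSpec g (by rw [hU.range_fromSpec]; exact hxU)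
  let ν := Spec.preimage g₀
  have hν : Spec.map ν ≫ hU.fromSpec = g := by rw [Spec.map_preimage, hg₀]
  letI : Algebra Γ(X, U) V := ν.hom.toAlgebra
  have hpieces : ∀ i, ∃ s : Set (E.X i).affineOpens, s.Finite ∧
      ((E.f i ⁻¹ᵁ U : (E.X i).Opens) : Set (E.X i)) = ⋃ V ∈ s, (V.1 : Set (E.X i)) := fun i => by
    exact isCompact_and_isOpen_iff_finite_and_eq_biUnion_affineOpens.1
      ⟨(E.f i).isCompact_preimage hU.isCompact, (E.f i ⁻¹ᵁ U).2⟩
  choose s hsfin hs using hpieces
  let κ := Σ i : E.I₀, s i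
  haveI : ∀ i, Finite (s i) := fun i => (hsfin i).to_subtype
  have hle : ∀ k : κ, k.2.1.1 ≤ E.f k.1 ⁻¹ᵁ U := fun k => by
    intro y hy
    show y ∈ ((E.f k.1 ⁻¹ᵁ U : (E.X k.1).Opens) : Set (E.X k.1))
    rw [hs]
    exact Set.mem_biUnion k.2.2 hy
  have hw : ∀ k : κ, ∃ (a c : V) (S : Finset V), a ∈ IsLocalRing.maximalIdeal V ∧ c ≠ 0 ∧
      ∀ (A' : Subalgebra Γ(X, U) V), ↑S ⊆ (A' : Set V) → ∀ (ha : a ∈ A') (hc : c ∈ A') (W : Type u) [CommRing W]
        [IsDomain W] (ψ : A' →+* W) (β : Γ(E.X k.1, k.2.1.1) →+* W),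
        β.comp ((E.f k.1).appLE U k.2.1.1 (hle k)).hom = ψ.comp (algebraMap Γ(X, U) A') →
        ¬ IsUnit (ψ ⟨a, ha⟩) → ψ ⟨c, hc⟩ = 0 := fun k => by
    letI : Algebra Γ(X, U) Γ(E.X k.1, k.2.1.1) := ((E.f k.1).appLE U k.2.1.1 (hle k)).hom.toAlgebra
    haveI : Algebra.FiniteType Γ(X, U) Γ(E.X k.1, k.2.1.1) := (E.f k.1).finiteType_appLE hU k.2.1.2 (hle k)
    rcases exists_specialization_or_witness (A := Γ(X, U)) (B := Γ(E.X k.1, k.2.1.1)) (V := V) with
      ⟨C, _, ι, γ, Q, Q', hQ, hQ', hQQ', hι, hι', hγ⟩ | h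
    · exfalso
      let q : Spec (CommRingCat.of C) := (⟨Q, hQ⟩ : PrimeSpectrum C)
      let p : Spec (CommRingCat.of C) := (⟨Q', hQ'⟩ : PrimeSpectrum C)
      obtain ⟨W, hW, hW', φ, l, hφ, hl, -⟩ := exists_ext_of_points (Spec.map (CommRingCat.ofHom ι))
        (q := q) (p := p) ((PrimeSpectrum.le_iff_specializes _ _).1 hQQ') (PrimeSpectrum.ext hι) (PrimeSpectrum.ext hι')
      refine hcon ⟨W, hW, hW', φ, hφ, k.1, l ≫ Spec.map (CommRingCat.ofHom γ) ≫ k.2.1.2.fromSpec, ?_⟩
      have e : (E.f k.1).appLE U k.2.1.1 (hle k) ≫ CommRingCat.ofHom γ = ν ≫ CommRingCat.ofHom ι :=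
        CommRingCat.hom_ext hγ
      rw [Category.assoc, Category.assoc, ← IsAffineOpen.SpecMap_appLE_fromSpec (E.f k.1) hU k.2.1.2 (hle k),
        ← Spec.map_comp_assoc, e, Spec.map_comp_assoc, hν, ← Category.assoc, hl]
    · exact h
  choose a c S ha hc hS using hw
  haveI : Fintype κ := Fintype.ofFinite _
  let Sall : Finset V := Finset.univ.biUnion fun k => S k ∪ {a k, c k}
  let A' := Algebra.adjoin Γ(X, U) (Sall : Set V)
  have hsub : ∀ k, ∀ v ∈ S k ∪ {a k, c k}, v ∈ A' := fun k v hv =>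
    Algebra.subset_adjoin (Finset.mem_coe.2 (Finset.mem_biUnion.2 ⟨k, Finset.mem_univ _, hv⟩))
  haveI : Algebra.FiniteType Γ(X, U) A' := (Subalgebra.fg_iff_finiteType _).1 (Subalgebra.fg_adjoin_finset _)
  haveI : IsNoetherianRing A' := Algebra.FiniteType.isNoetherianRing Γ(X, U) A'
  obtain ⟨R, _, _, ψ, hψ, hψm⟩ := exists_dvr_hom A' ((maximalIdeal V).comap A'.val.toRingHom)
  let g' : Spec R ⟶ X := Spec.map (CommRingCat.ofHom (ψ.comp (algebraMap Γ(X, U) A'))) ≫ hU.fromSpec
  obtain ⟨W, _, _, φ, hφ, i, l, hl⟩ := hdvr R g'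
  haveI := hφ.2
  have hl' : l (closedPoint W) ∈ E.f i ⁻¹ᵁ U := by
    show E.f i (l (closedPoint W)) ∈ U
    rw [← Scheme.Hom.comp_apply, hl, ← SetLike.mem_coe, ← hU.range_fromSpec]
    exact ⟨Spec.map (CommRingCat.ofHom (ψ.comp (algebraMap Γ(X, U) A'))) (Spec.map φ (closedPoint W)), rfl⟩
  rw [← SetLike.mem_coe, hs] at hl'
  obtain ⟨O, hO, hlO⟩ := Set.mem_iUnion₂.1 hl'
  let k : κ := ⟨i, O, hO⟩
  obtain ⟨l₁, hl₁⟩ := exists_lift_of_closedPoint k.2.1.2.fromSpec l (by rw [IsAffineOpen.range_fromSpec]; exact hlO)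
  let β := Spec.preimage l₁
  have hβ : (E.f i).appLE U O.1 (hle k) ≫ β = CommRingCat.ofHom (ψ.comp (algebraMap Γ(X, U) A')) ≫ φ := by
    refine Spec.map_injective ?_
    rw [← cancel_mono hU.fromSpec, Spec.map_comp, Spec.map_comp, Category.assoc, Category.assoc,
      IsAffineOpen.SpecMap_appLE_fromSpec (E.f i) hU O.2 (hle k), Spec.map_preimage, reassoc_of% hl₁]
    exact hl
  have hak : a k ∈ A' := hsub k _ (by simp)
  have hck : c k ∈ A' := hsub k _ (by simp)
  have hzero := hS k A' (fun v hv => hsub k v (Finset.mem_union_left _ hv)) hak hck W (φ.hom.comp ψ) β.hom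
    (by rw [RingHom.comp_assoc]; exact congrArg CommRingCat.Hom.hom hβ)
    (fun hu => by
      have hu' : IsUnit (ψ ⟨a k, hak⟩) := isUnit_of_map_unit φ.hom _ hu
      have : (⟨a k, hak⟩ : A') ∈ (maximalIdeal R).comap ψ := by rw [hψm]; exact ha k
      exact this hu')
  refine hc k ?_
  have := hψ ((hφ.1 (hzero.trans (map_zero φ.hom).symm)).trans (map_zero ψ).symm)
  exact congrArg Subtype.val this

theorem isVCover_of_univSubmersive [IsNoetherian X] (E : PreZeroHypercover.{u} X) [Finite E.I₀]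
    [∀ i, LocallyOfFiniteType (E.f i)] [∀ i, QuasiCompact (E.f i)] (hE : SGA1.UnivSubmersive (Sigma.desc E.f)) :
    IsVCover E := by
  have h := hasValLift_of_dvr E (fun R _ _ g => exists_lift_dvr hE R g)
  have hσ : HasValLift (PreZeroHypercover.singleton.{0} (Sigma.desc E.f)) := by
    intro V _ _ g
    obtain ⟨W, hW, hW', φ, hφ, j, l, hl⟩ := h V g
    exact ⟨W, hW, hW', φ, hφ, PUnit.unit, l ≫ Sigma.ι E.X j, by
      show (l ≫ Sigma.ι E.X j) ≫ Sigma.desc E.f = _
      rw [Category.assoc, Sigma.ι_desc, hl]⟩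
  haveI : QuasiCompact (Sigma.desc E.f) := by
    refine (quasiCompact_iff_forall_isAffineOpen (f := Sigma.desc E.f)).2 fun U hU => ?_
    have : ((Sigma.desc E.f ⁻¹ᵁ U : (∐ E.X : Scheme).Opens) : Set ↥(∐ E.X)) =
        ⋃ i, Sigma.ι E.X i '' ((E.f i ⁻¹ᵁ U : (E.X i).Opens) : Set (E.X i)) := by
      ext z
      obtain ⟨i, y, rfl⟩ : ∃ (i : E.I₀) (y : E.X i), Sigma.ι E.X i y = z := (sigmaOpenCover E.X).exists_eq z
      constructor
      · intro hz
        refine Set.mem_iUnion.2 ⟨i, y, ?_, rfl⟩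
        show E.f i y ∈ U
        rw [← Sigma.ι_desc E.f i]; exact hz
      · rintro hz
        obtain ⟨j, y', hy', e⟩ := Set.mem_iUnion.1 hz
        show Sigma.desc E.f (Sigma.ι E.X i y) ∈ U
        rw [← e, ← Scheme.Hom.comp_apply, Sigma.ι_desc]
        exact hy'
    rw [this]
    exact isCompact_iUnion fun i => ((E.f i).isCompact_preimage hU.isCompact).image (Sigma.ι E.X i).continuous
  exact (isVCover_singleton_sigmaDesc_iff E).1 (isVCover_of_hasValLift (Sigma.desc E.f) hσ)

end Groth.Agent.HTop74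

namespace Groth.Agent.HTop74

theorem univSubmersive_desc_punit_iff {X Y : Scheme.{u}} (f : X ⟶ Y) :
    SGA1.UnivSubmersive (Sigma.desc fun _ : PUnit.{u + 1} => f) ↔ SGA1.UnivSubmersive f := by
  let i : ∐ (fun _ : PUnit.{u + 1} => X) ⟶ X := Sigma.desc fun _ => 𝟙 X
  have h1 : Sigma.ι (fun _ : PUnit.{u + 1} => X) PUnit.unit ≫ i = 𝟙 X := Sigma.ι_desc _ _
  haveI : IsIso i := ⟨Sigma.ι (fun _ : PUnit.{u + 1} => X) PUnit.unit, Sigma.hom_ext _ _ fun ⟨⟩ => by
    rw [← Category.assoc, h1, Category.id_comp, Category.comp_id], h1⟩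
  have e : (Sigma.desc fun _ : PUnit.{u + 1} => f) = i ≫ f := Sigma.hom_ext _ _ fun ⟨⟩ => by
    rw [Sigma.ι_desc, ← Category.assoc, h1, Category.id_comp]
  haveI : SGA1.UnivSubmersive.{u}.RespectsIso :=
    inferInstanceAs (MorphismProperty.universally _).RespectsIso
  rw [e]
  exact MorphismProperty.cancel_left_of_respectsIso SGA1.UnivSubmersive i f

end Groth.Agent.HTop74
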