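import Mathlib.RingTheory.Ideal.MinimalPrime.Localization
import Mathlib.RingTheory.Valuation.ValuationRing
import Mathlib.RingTheory.FiniteType
import Mathlib.Algebra.MvPolynomial.Eval

/-! A finite witness for the absence of specializations over a valuation ring. -/

set_option autoImplicit false

universe u

open MvPolynomial

namespace Groth.Agent.HTop74

variable {A B V : Type u} [CommRing A] [CommRing B] [Algebra A B] [Algebra.FiniteType A B]
  [CommRing V] [Algebra A V] [IsDomain V] [ValuationRing V]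

lemma exists_eq_mul_of_mem_map {C : Type u} [CommRing C] (f : V →+* C) (m : Ideal V) (x : C)
    (hx : x ∈ m.map f) : ∃ a ∈ m, ∃ b, x = f a * b := by
  induction hx using Submodule.span_induction with
  | mem x hx => obtain ⟨a, ha, rfl⟩ := hx; exact ⟨a, ha, 1, (mul_one _).symm⟩
  | zero => exact ⟨0, m.zero_mem, 0, (mul_zero _).symm⟩
  | add x y _ _ hx hy =>
    obtain ⟨a, ha, b, rfl⟩ := hx
    obtain ⟨a', ha', b', rfl⟩ := hy
    obtain ⟨k, rfl⟩ | ⟨k, rfl⟩ := ValuationRing.dvd_total a a'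
    · exact ⟨a, ha, b + f k * b', by rw [map_mul]; ring⟩
    · exact ⟨a', ha', f k * b + b', by rw [map_mul]; ring⟩
  | smul c x _ hx =>
    obtain ⟨a, ha, b, rfl⟩ := hx
    exact ⟨a, ha, c * b, by rw [smul_eq_mul]; ring⟩

/-- Either there is a specialization from the generic to the closed fibre of `Spec (V ⊗ B)`, given by
primes in some `V`-algebra receiving `B`, or there is a finite obstruction. -/
theorem exists_specialization_or_witness :
    (∃ (C : Type u) (_ : CommRing C) (ι : V →+* C) (γ : B →+* C) (Q Q' : Ideal C), Q.IsPrime ∧ Q'.IsPrime ∧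
        Q ≤ Q' ∧ Q.comap ι = ⊥ ∧ Q'.comap ι = IsLocalRing.maximalIdeal V ∧
        γ.comp (algebraMap A B) = ι.comp (algebraMap A V)) ∨
    (∃ (a c : V) (S : Finset V), a ∈ IsLocalRing.maximalIdeal V ∧ c ≠ 0 ∧
      ∀ (A' : Subalgebra A V), ↑S ⊆ (A' : Set V) → ∀ (ha : a ∈ A') (hc : c ∈ A') (W : Type u) [CommRing W]
        [IsDomain W] (ψ : A' →+* W) (β : B →+* W), β.comp (algebraMap A B) = ψ.comp (algebraMap A A') →
        ¬ IsUnit (ψ ⟨a, ha⟩) → ψ ⟨c, hc⟩ = 0) := by
  classical
  obtain ⟨n, e, he⟩ := Algebra.FiniteType.iff_quotient_mvPolynomial''.1 (inferInstance : Algebra.FiniteType A B)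
  let I : Ideal (MvPolynomial (Fin n) A) := RingHom.ker e.toRingHom
  let μ := MvPolynomial.map (σ := Fin n) (algebraMap A V)
  let K : Ideal (MvPolynomial (Fin n) V) := I.map μ
  let C := MvPolynomial (Fin n) V ⧸ K
  let q := Ideal.Quotient.mk K
  let ι : V →+* C := q.comp MvPolynomial.C
  let γ₀ : MvPolynomial (Fin n) A →+* C := q.comp μ
  have hγ₀ : RingHom.ker e.toRingHom ≤ RingHom.ker γ₀ := fun x hx =>
    Ideal.Quotient.eq_zero_iff_mem.2 (Ideal.mem_map_of_mem μ hx)
  let γ : B →+* C := RingHom.liftOfSurjective e.toRingHom he ⟨γ₀, hγ₀⟩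
  have hγ : ∀ x, γ (e x) = γ₀ x := fun x => RingHom.liftOfRightInverse_comp_apply _ _ _ _ x
  let T : Ideal C :=
    { carrier := {x | ∃ c : V, c ≠ 0 ∧ ι c * x = 0}
      add_mem' := by
        rintro x y ⟨c, hc, hx⟩ ⟨d, hd, hy⟩
        refine ⟨c * d, mul_ne_zero hc hd, ?_⟩
        rw [map_mul, mul_add, mul_assoc, mul_assoc, mul_left_comm (ι c) (ι d) x, hx, hy]
        ring
      zero_mem' := ⟨1, one_ne_zero, mul_zero _⟩
      smul_mem' := by
        rintro r x ⟨c, hc, hx⟩
        exact ⟨c, hc, by rw [smul_eq_mul, mul_left_comm, hx, mul_zero]⟩ }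
  let m := IsLocalRing.maximalIdeal V
  by_cases htop : m.map ι ⊔ T = ⊤
  · right
    obtain ⟨x, hx, τ, ⟨c, hc, hcτ⟩, hsum⟩ := Submodule.mem_sup.1 ((Ideal.eq_top_iff_one _).1 htop)
    obtain ⟨a, ha, b, rfl⟩ := exists_eq_mul_of_mem_map ι m x hx
    obtain ⟨b', rfl⟩ := Ideal.Quotient.mk_surjective b
    have hK : MvPolynomial.C c * (MvPolynomial.C a * b' - 1) ∈ K := by
      refine Ideal.Quotient.eq_zero_iff_mem.1 ?_
      rw [map_mul, map_sub, map_mul, map_one]
      show ι c * (ι a * q b' - 1) = 0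
      have h1 : ι a * q b' - 1 = -τ := by rw [← hsum]; ring
      rw [h1]
      exact (mul_neg (ι c) τ).trans (neg_eq_zero.2 hcτ)
    have key : ∀ p ∈ K, ∃ S : Finset V, ∀ A' : Subalgebra A V, ↑S ⊆ (A' : Set V) →
        ∃ p' : MvPolynomial (Fin n) A', p' ∈ I.map (MvPolynomial.map (algebraMap A A')) ∧
          MvPolynomial.map A'.val.toRingHom p' = p := by
      intro p hp
      induction hp using Submodule.span_induction with
      | mem p hp =>
        obtain ⟨p₀, hp₀, rfl⟩ := hp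
        refine ⟨∅, fun A' _ => ⟨_, Ideal.mem_map_of_mem _ hp₀, ?_⟩⟩
        rw [MvPolynomial.map_map]
        rfl
      | zero => exact ⟨∅, fun A' _ => ⟨0, Ideal.zero_mem _, map_zero _⟩⟩
      | add p r _ _ hp hr =>
        obtain ⟨S, hS⟩ := hp
        obtain ⟨S', hS'⟩ := hr
        refine ⟨S ∪ S', fun A' hA => ?_⟩
        rw [Finset.coe_union, Set.union_subset_iff] at hA
        obtain ⟨p', hp', rfl⟩ := hS A' hA.1
        obtain ⟨r', hr', rfl⟩ := hS' A' hA.2
        exact ⟨p' + r', Ideal.add_mem _ hp' hr', map_add _ _ _⟩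
      | smul r p _ hp =>
        obtain ⟨S, hS⟩ := hp
        refine ⟨S ∪ r.coeffs, fun A' hA => ?_⟩
        rw [Finset.coe_union, Set.union_subset_iff] at hA
        obtain ⟨p', hp', rfl⟩ := hS A' hA.1
        obtain ⟨r', rfl⟩ := (MvPolynomial.mem_range_map_iff_coeffs_subset (f := A'.val.toRingHom) (x := r)).2
          (fun x hx => ⟨⟨x, hA.2 hx⟩, rfl⟩)
        exact ⟨r' * p', Ideal.mul_mem_left _ _ hp', map_mul _ _ _⟩
    obtain ⟨S, hS⟩ := key _ hK
    refine ⟨a, c, S ∪ b'.coeffs, ha, hc, fun A' hA ha' hc' W _ _ ψ β hβ hau => ?_⟩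
    rw [Finset.coe_union, Set.union_subset_iff] at hA
    obtain ⟨p', hp', hp'e⟩ := hS A' hA.1
    obtain ⟨b'', rfl⟩ := (MvPolynomial.mem_range_map_iff_coeffs_subset (f := A'.val.toRingHom) (x := b')).2
      (fun x hx => ⟨⟨x, hA.2 hx⟩, rfl⟩)
    have hinj : Function.Injective (MvPolynomial.map (σ := Fin n) A'.val.toRingHom) :=
      MvPolynomial.map_injective _ Subtype.val_injective
    have hpe : p' = MvPolynomial.C ⟨c, hc'⟩ * (MvPolynomial.C ⟨a, ha'⟩ * b'' - 1) := hinj (by
      rw [hp'e]; simp)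
    let ev : MvPolynomial (Fin n) A' →+* W := MvPolynomial.eval₂Hom ψ (fun i => β (e (MvPolynomial.X i)))
    have hker : I.map (MvPolynomial.map (algebraMap A A')) ≤ RingHom.ker ev := by
      rw [Ideal.map_le_iff_le_comap]
      intro x hx
      have hh : ev.comp (MvPolynomial.map (algebraMap A A')) = β.comp e.toRingHom := by
        refine MvPolynomial.ringHom_ext (fun r => ?_) fun i => ?_
        · simp only [ev, RingHom.comp_apply, MvPolynomial.map_C, MvPolynomial.eval₂Hom_C]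
          exact (RingHom.congr_fun hβ r).symm.trans (congrArg β (e.commutes r).symm)
        · simp [ev]
      show ev (MvPolynomial.map _ x) = 0
      rw [← RingHom.comp_apply, hh, RingHom.comp_apply, show e.toRingHom x = 0 from hx, map_zero]
    have h0 : ev p' = 0 := hker hp'
    rw [hpe, map_mul, map_sub, map_mul, map_one] at h0
    simp only [ev, MvPolynomial.eval₂Hom_C] at h0
    rcases mul_eq_zero.1 h0 with h0 | h0
    · exact h0
    · exact absurd (IsUnit.of_mul_eq_one _ (sub_eq_zero.1 h0)) hau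
  · left
    obtain ⟨Q', hQ', hle⟩ := Ideal.exists_le_maximal _ htop
    have := hQ'.isPrime
    obtain ⟨Q, hQ, hQQ'⟩ := Ideal.exists_minimalPrimes_le (I := T) (J := Q') (le_sup_right.trans hle)
    refine ⟨C, inferInstance, ι, γ, Q, Q', hQ.1.1, hQ'.isPrime, hQQ', eq_bot_iff.2 fun v hv => ?_,
      ((IsLocalRing.maximalIdeal.isMaximal V).eq_of_le (Ideal.IsPrime.comap ι).ne_top
        (Ideal.map_le_iff_le_comap.1 (le_sup_left.trans hle))).symm, ?_⟩
    · by_contra hv0
      obtain ⟨y, hy, c, hc, hxy⟩ := Ideal.exists_mul_mem_of_mem_minimalPrimes hQ hv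
      exact hy ⟨c * v, mul_ne_zero hc hv0, by rw [map_mul, mul_assoc, hxy]⟩
    · ext r
      rw [RingHom.comp_apply, RingHom.comp_apply, ← e.commutes r, hγ]
      simp [γ₀, ι, μ]

end Groth.Agent.HTop74
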